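import Cfsg.Agent.Comp.J1.Up
import Cfsg.Agent.Comp.J1.Nets

set_option autoImplicit false
set_option maxRecDepth 100000

namespace Cfsg.Agent.Comp.J1
open Cfsg.Agent.Comp

def W0 : List (List Nat) := [[0],
[1],
[2],
[3]]

noncomputable def phi : G →* Equiv.Perm ℕ := (pres.rep ok sat).choose

theorem rep : Rep s 5 266 T phi := (pres.rep ok sat).choose_spec

theorem trans : ∀ i < 266, ∃ g, phi g 0 = i :=
  rep.trans (sch := [4, 3, 2, 4, 1, 3, 2, 0, 1, 3, 4, 3, 2, 0, 1, 3, 0, 4, 2]) (by decide +kernel)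

theorem stab : (genW s W0).index = 266 ∧ ∀ g, g ∈ genW s W0 ↔ phi g 0 = 0 :=
  rep.stab_eq (by decide +kernel) (by norm_num) trans (by decide +kernel) (Top.index _ s pres.sat)

theorem orb1 : MulAction.orbit (genW (sig T) W0) 1 = Set.Ico 1 (1 + 11) ∧
    (MulAction.orbit (genW (sig T) W0) 1).ncard = 11 :=
  orbit_ivl (sch := [3, 2, 1, 0, 2, 1, 0]) ok (by norm_num) (by norm_num) (by decide +kernel) (by decide +kernel)

theorem orb12 : MulAction.orbit (genW (sig T) W0) 12 = Set.Ico 12 (12 + 12) ∧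
    (MulAction.orbit (genW (sig T) W0) 12).ncard = 12 :=
  orbit_ivl (sch := [0, 1, 3, 0]) ok (by norm_num) (by norm_num) (by decide +kernel) (by decide +kernel)

theorem orb24 : MulAction.orbit (genW (sig T) W0) 24 = Set.Ico 24 (24 + 110) ∧
    (MulAction.orbit (genW (sig T) W0) 24).ncard = 110 :=
  orbit_ivl (sch := [0, 1, 2, 3, 0, 1, 2, 0, 1, 3, 0, 2]) ok (by norm_num) (by norm_num) (by decide +kernel) (by decide +kernel)

theorem orb134 : MulAction.orbit (genW (sig T) W0) 134 = Set.Ico 134 (134 + 132) ∧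
    (MulAction.orbit (genW (sig T) W0) 134).ncard = 132 :=
  orbit_ivl (sch := [0, 1, 2, 3, 0, 1, 2, 0, 1, 3, 2, 0, 1, 0]) ok (by norm_num) (by norm_num) (by decide +kernel) (by decide +kernel)

namespace Col

noncomputable def t0 : Tr := (Tr.node (nat_lit 0) (Tr.leaf (nat_lit 0x444c690004ffff1053ffffffd0d3fffc626004ffff01c00a6414c690fffc030fffc013fffd1120b6001208a7fff015406b434bfffffffffffffc054fffd0120e43fff0b97ffffffffff44443580047fff019c06501550d1fffffff00443e7fffc0544244710fffffff0047ffffffd0510e40025fffc0230047fff24403940043fffffffffffffc8d01c443d00043ffffffffff22406d1fffffff0043fff015c8500d47fff006ffff004001a2040790fffc7501d403d00040000fffc8101f407d01f407d0))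
(Tr.node (nat_lit 1) (Tr.leaf (nat_lit 0x62745e6147bfff0077ffffffd81d194459d167c59e167c01d63701e9fffc01cffffffffffd91bfffc01bfffffff0287fff646831400681a1ffffffffffd8da0a97fff006bffffffffff64603110063ffffffffff02858980e9fffffffc018fffc0a0645ffff005ffffffffffffffd8d7fffffff005fffffffffff64583d4fffffff01ebffffffd8d60a57fff005bfff0163fff625bfff00ebfffffffffffffd816ffffffffffffff016801644503500053fff01dbffffffd0940f7ffff01c801400d7fff))
(Tr.leaf (nat_lit 0x3ffffffffffffffffffffc000fffffffffffffffffffff0003ffffffffffffffffffffc000fffffffffffffffffffff0003ffffffffffffffffffffe123107ffff03d7fff04cbfff848bfff00881ecfffc0ab01960e20967fff008bfff02a8064638416bfffc021ffffffffffd9200e4c020ffffffffffffff6183ffffffffffffffffffffd8df10cbfff007fffffffffff64784ef007bfffffffffffffd89e11c7ffffffc01efffffff647456e007449f127805ffffd8ddfffffffffffffffffffff))))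

noncomputable def T : Tr := t0

def RT : List (List (List Nat)) := [
  [[nat_lit 3, nat_lit 0, nat_lit 3],
   [nat_lit 2, nat_lit 0, nat_lit 2],
   [nat_lit 4, nat_lit 0, nat_lit 4],
   [nat_lit 0]],
  [[nat_lit 4, nat_lit 1, nat_lit 4],
   [nat_lit 3, nat_lit 1, nat_lit 3],
   [nat_lit 0, nat_lit 1, nat_lit 0, nat_lit 1, nat_lit 0],
   [nat_lit 1]],
  [[nat_lit 4, nat_lit 2, nat_lit 4],
   [nat_lit 2]],
  [[nat_lit 2, nat_lit 3, nat_lit 2, nat_lit 3, nat_lit 2],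
   [nat_lit 4, nat_lit 2, nat_lit 3, nat_lit 1, nat_lit 2, nat_lit 0, nat_lit 1],
   [nat_lit 3],
   [nat_lit 1, nat_lit 3, nat_lit 1]],
  [[nat_lit 4],
   [nat_lit 2, nat_lit 3, nat_lit 1, nat_lit 2, nat_lit 0, nat_lit 1, nat_lit 3]],
  [[nat_lit 3, nat_lit 4, nat_lit 2, nat_lit 3, nat_lit 1, nat_lit 2, nat_lit 0, nat_lit 1],
   [nat_lit 3, nat_lit 0, nat_lit 3, nat_lit 0],
   [nat_lit 3, nat_lit 4, nat_lit 3, nat_lit 4, nat_lit 3, nat_lit 4, nat_lit 3, nat_lit 4, nat_lit 3, nat_lit 4],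
   [nat_lit 0, nat_lit 0],
   [nat_lit 1, nat_lit 1],
   [nat_lit 3, nat_lit 3],
   [nat_lit 4, nat_lit 4],
   [nat_lit 2, nat_lit 2],
   [nat_lit 4, nat_lit 2, nat_lit 4, nat_lit 2],
   [nat_lit 2, nat_lit 1, nat_lit 3, nat_lit 2, nat_lit 4, nat_lit 3, nat_lit 1, nat_lit 0],
   [nat_lit 4, nat_lit 0, nat_lit 2, nat_lit 3, nat_lit 2, nat_lit 4, nat_lit 3, nat_lit 2, nat_lit 4, nat_lit 3, nat_lit 2, nat_lit 4, nat_lit 3, nat_lit 4, nat_lit 2, nat_lit 3],
   [nat_lit 1, nat_lit 0, nat_lit 2, nat_lit 1, nat_lit 2, nat_lit 0, nat_lit 1, nat_lit 2, nat_lit 0, nat_lit 1, nat_lit 2, nat_lit 0, nat_lit 1, nat_lit 0, nat_lit 2]]]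

def HT : List (List (Nat × Nat × Nat)) := [
  [(0, 10, 1), (0, 7, 1), (0, 14, 1), (0, 1, 0)],
  [(0, 15, 1), (0, 11, 1), (0, 6, 0), (0, 2, 0)],
  [(0, 16, 1), (0, 3, 0)],
  [(0, 12, 0), (0, 0, 6), (0, 4, 0), (0, 11, 0)],
  [(0, 5, 0), (0, 0, 7)],
  [(0, 0, 5), (0, 10, 1), (0, 17, 0), (0, 1, 0), (0, 2, 0), (0, 4, 0), (0, 5, 0), (0, 3, 0), (0, 16, 1), (1, 0, 5), (0, 18, 15), (1, 9, 1)]]

def R : List (List Nat) :=
  [[3, 1, 2, 0, 1, 3, 4, 2],
   [0, 0],
   [1, 1],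
   [2, 2],
   [3, 3],
   [4, 4],
   [0, 1, 0, 1, 0, 1],
   [0, 2, 0, 2],
   [1, 2, 1, 2, 1, 2, 1, 2, 1, 2],
   [0, 1, 0, 2, 1, 0, 2, 1, 0, 2, 1, 2, 0, 1, 2],
   [0, 3, 0, 3],
   [1, 3, 1, 3],
   [2, 3, 2, 3, 2, 3],
   [1, 2, 1, 2, 1, 3, 2, 1, 2, 1, 3, 2, 1, 2, 3],
   [0, 4, 0, 4],
   [1, 4, 1, 4],
   [2, 4, 2, 4],
   [3, 4, 3, 4, 3, 4, 3, 4, 3, 4],
   [0, 2, 3, 2, 4, 3, 2, 4, 3, 2, 4, 3, 4, 2, 3, 4]]

def W : List (List Nat) := []

noncomputable def P : Par := ⟨T, (nat_lit 4), (nat_lit 15), (nat_lit 98), (nat_lit 14), (nat_lit 16383), (nat_lit 6), (nat_lit 63), (nat_lit 5), (nat_lit 17), (nat_lit 64), (nat_lit 0x18a418820), RT⟩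

noncomputable def J0 : List Nat := [
  nat_lit 0x11c008f111c008f111c0087111c008b13061568008f15780087114c008b10446118461184611846003ef146105105a65c8011b15e46000c71061041465d800d3104106115c008315397e0047c4104106121c0036c4185105112c0034c4106104114e0033c548000c3105a20021c610415600032c45a000c319e5e000c3106129c0036c410416a8008b105866b8011b105484a0031c4104106b8000cb15600030c416d8008b18493000d31061051046e800cf19a00030c476000c710616f80083104104830021c41846e800d31,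
  nat_lit 0x518729e93800143105f9da0036c41076a080030c41846b800d71844a00014b10410410410414410588000c710610478800cf104105a0030c4105496a0035c410418410410410610608000c7106104119c0037c618000cb10410611720035c410418411e20034c4104137c008b1845c800cf10618000c31041841041061069800041c6131c008f131c0087131c008b131c0083118a780ba7e4e1480ba0042b104184133c008311e82e9e8002271,
  nat_lit 0x4104104105f8000c3132c0087134f2c00cb186e9d82f9d80022710418410719ea0034c41041061be3180048c4104184120c0035c410410410410410614e61800df104106104e696ea2080020319200030c6a8000c7106105980724a0e60028b14ae00030c41b200033c610412080031c410a22496a3801c710582658011f1041041041041041041041041041041041041041041041]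

theorem c0 : chk T (nat_lit 4) (nat_lit 15) (nat_lit 98) (nat_lit 14) (nat_lit 16383) (nat_lit 6) (nat_lit 63) (nat_lit 5) (nat_lit 17) (nat_lit 64) (nat_lit 0x18a418820) (nat_lit 4) (nat_lit 15) RT (nat_lit 16) J0 (nat_lit 16) = true := by
  decide +kernel

theorem r0 : P.RowsOK 16 64 := chk_sound P _ _ _ J0 _ _ (by decide +kernel) c0

theorem index.{u} : IndexLe.{u} 5 R W 1 :=
  indexLe_of_cert P HT (by decide +kernel)
    (show P.RowsOK 16 64 from r0)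

end Col

theorem card : Finite G ∧ Nat.card G = 175560 ∧ Function.Injective phi :=
  rep.card_eq up low

def primT : List (List Nat × List Nat) :=
  [([4], [0, 4, 0, 3, 2, 4, 3, 1, 2, 4, 0, 4, 3, 1, 2, 4, 1, 0, 3]),
   ([4, 3, 2, 1, 0, 2, 4, 3, 2, 1, 2, 4, 3, 4], [0, 1, 2, 4, 1, 0, 1, 2, 4, 1, 0, 1, 2, 4]),
   ([4, 3, 4], [0, 3, 4, 2, 3, 1, 2, 4, 1, 3, 2, 4, 0, 4, 3, 4, 1, 2]),
   ([4, 3, 2, 1, 2, 4, 3, 4], [0, 1, 2, 3, 4, 1, 2, 3, 1, 2, 1, 4, 0, 3, 4, 1, 2])]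

theorem prim_0 : Nat.beq (grow T ([4] :: W0) [0, 4, 0, 3, 2, 4, 3, 1, 2, 4, 0, 4, 3, 1, 2, 4, 1, 0, 3] (pt (nat_lit 0))) (ivl (nat_lit 0) (nat_lit 266)) = true := by
  decide +kernel

theorem prim_1 : Nat.beq (grow T ([4, 3, 2, 1, 0, 2, 4, 3, 2, 1, 2, 4, 3, 4] :: W0) [0, 1, 2, 4, 1, 0, 1, 2, 4, 1, 0, 1, 2, 4] (pt (nat_lit 0))) (ivl (nat_lit 0) (nat_lit 266)) = true := by
  decide +kernel

theorem prim_2 : Nat.beq (grow T ([4, 3, 4] :: W0) [0, 3, 4, 2, 3, 1, 2, 4, 1, 3, 2, 4, 0, 4, 3, 4, 1, 2] (pt (nat_lit 0))) (ivl (nat_lit 0) (nat_lit 266)) = true := by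
  decide +kernel

theorem prim_3 : Nat.beq (grow T ([4, 3, 2, 1, 2, 4, 3, 4] :: W0) [0, 1, 2, 3, 4, 1, 2, 3, 1, 2, 1, 4, 0, 3, 4, 1, 2] (pt (nat_lit 0))) (ivl (nat_lit 0) (nat_lit 266)) = true := by
  decide +kernel

theorem prim : Prim (gen (sig T) 5) 0 :=
  prim_of_cert (W := W0) (ts := primT) (sch := [3, 2, 1, 0, 2, 3, 1, 2, 1, 0, 2, 3, 1]) ok (ok.genW_le _) (by norm_num) (genW_le_gen (by decide +kernel)) (by decide +kernel)
    (fun t ht => ev_mem fun x hx => letter_mem_gen ((by decide +kernel : ∀ t ∈ primT, ∀ x ∈ t.1, x < 5) t ht x hx)) (by decide +kernel)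
    (by simp only [primT, List.forall_mem_cons]; exact ⟨prim_0, prim_1, prim_2, prim_3, by simp⟩)

def XP : List (List Nat) := [[3, 1, 2, 0, 1, 3, 4, 2, 3, 1, 2, 0, 1, 3, 4, 2, 3, 1, 2, 0, 1, 3, 4, 2, 3, 1, 2, 0, 1, 3, 4, 2, 3, 1, 2, 0, 1, 3, 4, 2, 3, 1, 2, 0, 1, 3, 4, 2, 3, 1, 2, 0, 1, 3, 4, 2]]

theorem satX : Sat (sig T) XP :=
  sat_of_relsP ok (by norm_num) (show relsP (nat_lit 266) (nat_lit 9) (nat_lit 0) (nat_lit 9) T XP = true by decide +kernel)

theorem simple : IsSimpleGroup G :=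
  rep.simple (m := 660) (p := 7) (X := [[3, 1, 2, 0, 1, 3, 4, 2]]) card.2.2 (by norm_num) (by norm_num) trans prim card.2.1 (by norm_num) pres.sat
    Col.index (by decide +kernel) (by decide +kernel) (satX.mono (by decide +kernel))


end Cfsg.Agent.Comp.J1
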