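import Cfsg.Agent.Comp.J1.Base
import Cfsg.Agent.Comp.OutKit

set_option autoImplicit false
set_option maxRecDepth 100000

namespace Cfsg.Agent.Comp.J1
open Cfsg.Agent.Comp

noncomputable def on5 : Net :=
(Net.cons (nat_lit 0x12094ca4e5cec0b2308d56b1dba0252ad8) (nat_lit 133)
(Net.cons (nat_lit 0x774eb643b5c6808c800000000000000001db597f3f58732258) (nat_lit 67)
(Net.cons (nat_lit 0x1e307beb0000000001b5b3c5500000000053e7928b000000001054970e1) (nat_lit 33)
(Net.cons (nat_lit 0x54e400005cd60000530400001914e0000fae900000e130000253ac0000a3d1) (nat_lit 17)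
(Net.cons (nat_lit 0x338011201f800d1002d00080017000100020001d00a8006200020007c00840012) (nat_lit 8)
(Net.cons (nat_lit 0x30000c1000000a0a00820341010101a000014020008000204000280a1810180d08) (nat_lit 4)
(Net.cons (nat_lit 0x8044404400102010000800000802044040020220002010100800400040003020) (nat_lit 2)
(Net.cons (nat_lit 0x20000000000000000000000000000200000000800000000000) (nat_lit 1)
(Net.cons (nat_lit 0x100000000800040002000000010000000080000000400020001000000008000) (nat_lit 1)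
(Net.cons (nat_lit 0x5450a88a280810452a00904544514282828a050440451020891050aa2a8a821144) (nat_lit 1)
(Net.cons (nat_lit 0xc4cc6222260213311898000c8c00c2204602601303320018908040606002600132) (nat_lit 2)
(Net.cons (nat_lit 0xc2406041c040e05040103c081410081c041e0900000705808002c041a10140509) (nat_lit 4)
(Net.cons (nat_lit 0x2c00144008c005a007d002b803ec007a003600170090006180008018601a60068) (nat_lit 8)
(Net.cons (nat_lit 0x18a2200000a8b000047ab00000d80000005e24000077e300002c2d40000a3a9) (nat_lit 17)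
(Net.cons (nat_lit 0x1f8093776000000003cc385b04000000007484930e000000001407af4c5) (nat_lit 33)
(Net.cons (nat_lit 0x4e76b38354a6bf734000000000000000035799cedc6535eec5) (nat_lit 67)
(Net.cons (nat_lit 0x1398c18a16168d0cd90aae8a31a564d4a0) (nat_lit 133)
Net.nil)))))))))))))))))

noncomputable def on6 : Net :=
(Net.cons (nat_lit 0x175545334ae44dbdd41ea8a3472b5f4d94) (nat_lit 133)
(Net.cons (nat_lit 0x1c74899e0d46ec2ae00000000000000000207aefb60ca80ae1) (nat_lit 67)
(Net.cons (nat_lit 0x1ad252b48000000002b9ad3e64000000009379a6e10000000001c537092) (nat_lit 33)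
(Net.cons (nat_lit 0xaf6c0000c660000052d00000086f40000ff74000013858000374200000c1f5) (nat_lit 17)
(Net.cons (nat_lit 0x6001d80004008e005c001080120017200b4006400a0004300364013001dc0016) (nat_lit 8)
(Net.cons (nat_lit 0x200010140010040400030382820201c1004080e0e020e048002000000000040008) (nat_lit 4)
(Net.cons (nat_lit 0x88864400000000210000800008802044040420002002011104000044044442002) (nat_lit 2)
(Net.cons (nat_lit 0x400020000000000008000000040000000000010000000000000000) (nat_lit 1)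
(Net.cons (nat_lit 0x100000000800040002000000010000000080000000400020001000000008000) (nat_lit 1)
(Net.cons (nat_lit 0x510482880a08505400a8051045100208288a20404445420a095140828882285001) (nat_lit 1)
(Net.cons (nat_lit 0xcc840264042400200019044cccc884224604610122120188084040660260403011) (nat_lit 2)
(Net.cons (nat_lit 0x2408040e161c0f0a018082c282808140c16140f050702078003420161a0a1c0108) (nat_lit 4)
(Net.cons (nat_lit 0x310008800b4002b007f001b0021400ae013600cf00fa0067800f0009e00dc00d3) (nat_lit 8)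
(Net.cons (nat_lit 0xe68200003fd600006601c0001b9580000dfd000007c848000117580000b148) (nat_lit 17)
(Net.cons (nat_lit 0x76f7afbd0000000011e1eeb7c00000000b4edba960000000011e958a4b) (nat_lit 33)
(Net.cons (nat_lit 0x33ee9c4678a58bc7a00000000000000000894f051ab6880bb0) (nat_lit 67)
(Net.cons (nat_lit 0x8e07a201d2bf619d241cd6fd6fbfc6369) (nat_lit 133)
Net.nil)))))))))))))))))

noncomputable def on7 : Net :=
(Net.cons (nat_lit 0x17501b9c89bd3afce34c8a8defb25e0440) (nat_lit 133)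
(Net.cons (nat_lit 0x74fdf8efc7e6cec6800000000000000003442c923b8c5d788d) (nat_lit 67)
(Net.cons (nat_lit 0xc11003900000000036bde3e4000000000bab0a9c1000000000402acc8c) (nat_lit 33)
(Net.cons (nat_lit 0x4cc40000911c000005338000155940000912a000056de0000040c800001815) (nat_lit 17)
(Net.cons (nat_lit 0x2801ae001000e0006180170038801ec01e0004000180035801dc010000e8000b) (nat_lit 8)
(Net.cons (nat_lit 0x100a1010000f0c04800343008200004140808040a0c040002810041008080004) (nat_lit 4)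
(Net.cons (nat_lit 0x8002044040402000801048880800000440441220020210110c008400000042202) (nat_lit 2)
(Net.cons (nat_lit 0x80000000400020000000000008000000040000000000000000800000004000) (nat_lit 1)
(Net.cons (nat_lit 0x100000000800040002000000010000000080000000400020001000000008000) (nat_lit 1)
(Net.cons (nat_lit 0x15114a282a2a8444100889110410108002802851410151080a11544000800285104) (nat_lit 1)
(Net.cons (nat_lit 0x80202222420121018084c4048444664462210220002101888c08400020042233) (nat_lit 2)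
(Net.cons (nat_lit 0xc2c1a0e0010060306018143c2c18020414160408070702838281014101c180b01) (nat_lit 4)
(Net.cons (nat_lit 0xd401ae01ee0019006d0016c02cc01e401e000af0023003c800d401e601fa000b) (nat_lit 8)
(Net.cons (nat_lit 0x4cc40000911c000052cc40001f7bc0000913a00000b9180002c44c00001c15) (nat_lit 17)
(Net.cons (nat_lit 0xc3380392000000003ebcf345000000000bab0a9c1000000000500acecc) (nat_lit 33)
(Net.cons (nat_lit 0x74fdfaefc7e6ced6800000000000000003442c923b8c5d788d) (nat_lit 67)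
(Net.cons (nat_lit 0x17501b9c89bd3afce34c8a8defb25e0440) (nat_lit 133)
Net.nil)))))))))))))))))

noncomputable def T2 : List Net := [n0, n1, n2, n3, n4, on5, on6, on7]

theorem ok2 : TOK 266 T2 := TOK_of_ok (by decide +kernel)

def E2 : List (List Nat × List Nat) :=
  [([5], [3, 4, 3, 2, 3, 2, 4, 1]),
   ([6], [0, 5, 5, 2, 0, 1, 2, 3, 0, 1, 2, 0, 1, 2, 0]),
   ([7], [4, 2, 6, 3, 6, 4, 2, 3, 2, 0, 1])]

theorem eqs2 : ∀ e ∈ E2, ev (sig T2) e.1 = ev (sig T2) e.2 :=
  eq_of_eqsP ok2 (by norm_num) (show eqsP (nat_lit 266) (nat_lit 9) (nat_lit 0) (nat_lit 9) T2 E2 = true by decide +kernel)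

noncomputable def s2 : ℕ → G := liftS phi (sig T2)

theorem inj : Function.Injective phi := card.2.2

theorem ext1 : Rep (liftS phi (sig T)) 5 266 T phi ∧ ∀ x < 5, liftS phi (sig T) x = s x :=
  rep.extend inj ok (fun _ _ => rfl) eqs (by decide +kernel) rfl

theorem rep1 : Rep (liftS phi (sig T)) 5 266 T phi := ext1.1

theorem ext2 : Rep s2 8 266 T2 phi ∧ ∀ x < 5, s2 x = s x := by
  have h1 := ext1
  have h2 := h1.1.extend inj ok2 (by intro x hx; interval_cases x <;> rfl) eqs2 (by decide +kernel) (L' := 8) rfl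
  exact ⟨h2.1, fun x hx => (h2.2 x (by omega)).trans (h1.2 x hx)⟩

theorem rep2 : Rep s2 8 266 T2 phi := ext2.1

noncomputable def Is : List Nat := [ivl 0 1, ivl 1 11, ivl 12 12, ivl 24 110, ivl 134 132]

theorem orbs : Orbs phi 266 Is :=
  rep.orbs (by decide +kernel) stab.2 ((lall_eq _ _).mp (show lall (invS T W0) Is = true by decide +kernel))

def cxg : List (List Nat) := [[5]]

def cxW : List (List Nat) := [[5]]

def cxV : List (List Nat) := [[5],
[6]]

def cx1D : Ds := []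

def cx1P : Pats :=
  [([1, 3], [(1, [0]), (1, [0, 0]), (1, [0]), (0, [])], 79)]

def cx1L0 : List (Nat × List Nat × Nat) :=
  [(46, [6, 2], 0)]

def cx1B : List Nat := [46]

def cx2B : List Nat := [262]

def cyg : List (List Nat) := [[6]]

def cyW : List (List Nat) := [[6],
[]]

def cyV : List (List Nat) := [[6],
[7]]

def cy1D : Ds := []

def cy1P : Pats :=
  [([0, 3], [(0, [0]), (1, [])], 114)]

def cy1L0 : List (Nat × List Nat × Nat) :=
  [(16, [6, 1, 5], 0)]

def cy1B : List Nat := [16]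

def cy2D : Ds := [(114, 114, [6, 0, 1], [6, 0, 1], [2])]

def cy2P : Pats :=
  [([0, 4], [(0, [0]), (1, [])], 24),
   ([1, 3], [(0, []), (2, [0]), (1, [])], 260)]

def cy2L0 : List (Nat × List Nat × Nat) :=
  [(19, [5, 5, 7], 0),
   (5, [7, 2, 7], 1)]

def cy2B : List Nat := [19, 5]

def Rs : List (List Nat) :=
  [[0, 1, 0, 2, 0, 2, 0, 1, 0, 2, 0, 2, 0, 1, 0, 2, 0, 2]]

def GE : List (List Nat × List Nat) :=
  [([6, 7, 5, 6, 5, 0], [7, 6, 7, 5, 6, 5]),
   ([5, 0, 1], [0, 5, 0]),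
   ([6, 6, 5, 0, 5, 2], [6, 7, 6, 6, 5, 0, 5]),
   ([5, 2, 5, 3], [2, 5, 2, 5]),
   ([5, 3, 4], [2, 5, 3])]

def ob0 : List ((Nat × List Nat) × Nat) :=
  [((1, [6]), 0),
   ((1, [6, 6]), 0),
   ((1, [6, 6, 6]), 0),
   ((1, [6, 6, 6, 6]), 0),
   ((1, [6, 6, 6, 6, 6]), 0),
   ((1, [6, 6, 6, 6, 6, 6]), 0),
   ((1, [6, 6, 6, 6, 6, 6, 6]), 0),
   ((1, [6, 6, 6, 6, 6, 6, 6, 6]), 0),
   ((1, [6, 6, 6, 6, 6, 6, 6, 6, 6]), 0)]

theorem cxE : ∀ e ∈ (cenE cxg cxW [([5], [[0]]), ([6], [[0, 0, 0, 0, 0, 0]])]), ev s2 e.1 = ev s2 e.2 :=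
  rep2.eqB inj base (by decide +kernel)

theorem cx1S : srcB (nat_lit 8) (nat_lit 266) (nat_lit 9) T2 Is cxg [(108, 262)] cx1D [] 200 [7, 0, 3] cx1P = true := by
  decide +kernel

theorem cx1L0_ok : leafB (nat_lit 8) (nat_lit 266) (nat_lit 9) T2 Is cxg cx1D [] cx1P cx1L0 = true := by
  decide +kernel

theorem cx1T : stepB (nat_lit 8) (nat_lit 266) (nat_lit 9) T2 Is cxg cxW cxV [(108, 262)] [(108, 262, [5, 6, 2, 1], [6, 2, 7], [1])] [] [(0, [])] 200 [] cx1B [[0]] [[0, 1, 1, 0, 0]] [] [0, 0, 0, 0, 0, 0, 0, 0, 0, 0] = true := by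
  decide +kernel

theorem cx2T : stepB (nat_lit 8) (nat_lit 266) (nat_lit 9) T2 Is cxg cxW cxV [] [] [[0]] [(1, [])] 108 [108] cx2B [[0]] [[0],
[1, 1]] [] [] = true := by
  decide +kernel

theorem cx3T : stepB (nat_lit 8) (nat_lit 266) (nat_lit 9) T2 Is cxg cxW cxV [(108, 108)] [(108, 108, [5, 6, 2, 1], [5, 6, 2, 1], [1])] [] [(0, [])] 200 [200] [] [[0]] [[0, 1, 1, 0, 0]] [0, 0, 0, 0, 0, 0, 0, 0, 0, 0] [] = true := by
  decide +kernel

theorem cx4T : stepB (nat_lit 8) (nat_lit 266) (nat_lit 9) T2 Is cxg cxW cxV [(200, 200), (108, 108)] [(200, 200, [7, 0, 3], [7, 0, 3], [1, 3]), (108, 108, [5, 6, 2, 1], [5, 6, 2, 1], [3])] [] [(2, [0, 0, 0]), (1, [0]), (1, [0, 0, 0, 0, 0]), (0, [])] 0 [0] [] [] [] [] [] = true := by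
  decide +kernel

theorem cx5T : stepB (nat_lit 8) (nat_lit 266) (nat_lit 9) T2 Is cxg cxW cxV [(0, 0), (200, 200), (108, 108)] [(0, 0, [], [], [1])] [] [(0, [0]), (0, [])] 1 [1] [] [] [] [] [] = true := by
  decide +kernel

theorem cx6T : stepB (nat_lit 8) (nat_lit 266) (nat_lit 9) T2 Is cxg cxW cxV [(1, 1), (0, 0), (200, 200), (108, 108)] [(1, 1, [4], [4], [1]), (0, 0, [], [], [0])] [] [(0, [0]), (1, [])] 109 [109] [] [] [] [] [] = true := by
  decide +kernel

theorem cx7T : stepB (nat_lit 8) (nat_lit 266) (nat_lit 9) T2 Is cxg cxW cxV [(109, 109), (1, 1), (0, 0), (200, 200), (108, 108)] [(1, 1, [4], [4], [1]), (200, 200, [7, 0, 3], [7, 0, 3], [1])] [] [(0, [0, 0, 0]), (1, [])] 84 [84] [] [] [] [] [] = true := by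
  decide +kernel

theorem cx8T : stepB (nat_lit 8) (nat_lit 266) (nat_lit 9) T2 Is cxg cxW cxV [(84, 84), (109, 109), (1, 1), (0, 0), (200, 200), (108, 108)] [(84, 84, [5, 2], [5, 2], [0]), (0, 0, [], [], [3])] [] [(1, [0, 0, 0, 0, 0]), (0, [])] 24 [24] [] [] [] [] [] = true := by
  decide +kernel

theorem cyE : ∀ e ∈ (cenE cyg cyW [([6], [[0]]), ([7], [[0, 0, 0, 0, 0, 0, 0, 0, 0]])]), ev s2 e.1 = ev s2 e.2 :=
  rep2.eqB inj base (by decide +kernel)

theorem cy1S : srcB (nat_lit 8) (nat_lit 266) (nat_lit 9) T2 Is cyg [] cy1D [] 114 [6, 0, 1] cy1P = true := by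
  decide +kernel

theorem cy1L0_ok : leafB (nat_lit 8) (nat_lit 266) (nat_lit 9) T2 Is cyg cy1D [] cy1P cy1L0 = true := by
  decide +kernel

theorem cy1T : stepB (nat_lit 8) (nat_lit 266) (nat_lit 9) T2 Is cyg cyW cyV [] [] [[0, 0, 0, 0, 0]] [(1, [])] 114 [114] cy1B [[0]] [[1, 0, 0],
[0, 0, 0, 1]] [0, 0, 0, 0] [0, 0, 0, 0] = true := by
  decide +kernel

theorem cy2S : srcB (nat_lit 8) (nat_lit 266) (nat_lit 9) T2 Is cyg [(114, 114)] cy2D [] 24 [7, 0, 2, 5] cy2P = true := by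
  decide +kernel

theorem cy2L0_ok : leafB (nat_lit 8) (nat_lit 266) (nat_lit 9) T2 Is cyg cy2D [] cy2P cy2L0 = true := by
  decide +kernel

theorem cy2T : stepB (nat_lit 8) (nat_lit 266) (nat_lit 9) T2 Is cyg cyW cyV [(114, 114)] [(114, 114, [6, 0, 1], [6, 0, 1], [4])] [] [(0, [0, 0]), (0, [0]), (0, [0]), (0, [])] 24 [24] cy2B [[0, 0, 0, 0, 0]] [] [0] [0] = true := by
  decide +kernel

theorem cy3T : stepB (nat_lit 8) (nat_lit 266) (nat_lit 9) T2 Is cyg cyW cyV [(24, 24), (114, 114)] [(24, 24, [7, 0, 2, 5], [7, 0, 2, 5], [3, 4]), (114, 114, [6, 0, 1], [6, 0, 1], [3])] [] [(0, []), (2, [0]), (0, []), (2, [0]), (1, [0, 0, 0, 0, 0]), (0, [])] 0 [0] [] [] [] [] [] = true := by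
  decide +kernel

theorem cy4T : stepB (nat_lit 8) (nat_lit 266) (nat_lit 9) T2 Is cyg cyW cyV [(0, 0), (24, 24), (114, 114)] [(0, 0, [], [], [1, 2])] [] [(0, [0, 0, 0, 0]), (1, [])] 1 [1] [] [] [] [] [] = true := by
  decide +kernel

theorem cy5T : stepB (nat_lit 8) (nat_lit 266) (nat_lit 9) T2 Is cyg cyW cyV [(1, 1), (0, 0), (24, 24), (114, 114)] [(1, 1, [4], [4], [1])] [] [(0, [0]), (0, [])] 109 [109] [] [] [] [] [] = true := by
  decide +kernel

theorem cy6T : stepB (nat_lit 8) (nat_lit 266) (nat_lit 9) T2 Is cyg cyW cyV [(109, 109), (1, 1), (0, 0), (24, 24), (114, 114)] [(1, 1, [4], [4], [1]), (24, 24, [7, 0, 2, 5], [7, 0, 2, 5], [1])] [] [(0, [0, 0, 0]), (1, [])] 84 [84] [] [] [] [] [] = true := by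
  decide +kernel

theorem clE : ∀ e ∈ [([6] ++ [], [] ++ [6]), (wpow [6] 10, []), (wpow [] 1, wpow [6] 0)], ev s2 e.1 = ev s2 e.2 :=
  rep2.eqB inj base (by decide +kernel)

theorem oE : ∀ e ∈ (outE 5 6 7 11 2 1 9 Rs), ev s2 e.1 = ev s2 e.2 :=
  rep2.eqB inj base (by decide +kernel)

theorem gE : ∀ e ∈ GE, ev s2 e.1 = ev s2 e.2 :=
  rep2.eqB inj base (by decide +kernel)

theorem ob0_ok : obsB (nat_lit 8) (nat_lit 266) T2 (ivl 0 133) 5 6 7 Rs ob0 = true := by
  decide +kernel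

theorem cxX : Ctx s2 (nat_lit 8) (nat_lit 266) (nat_lit 9) T2 phi Is cxg cxW cxV :=
  Ctx.of (V := [([5], [[0]]), ([6], [[0, 0, 0, 0, 0, 0]])]) rep2 orbs (by norm_num) (by decide +kernel) cxE

theorem cx1N : No s2 phi cxg [(108, 262)] 200 cx1B :=
  No.of_eq (No.leaf cxX cx1S cx1L0_ok) (by decide +kernel)

theorem cx2N : No s2 phi cxg [] 108 cx2B :=
  No.of_eq (No.step cxX cx1T cx1N) (by decide +kernel)

theorem cxC6 : Cen s2 phi cxg [(84, 84), (109, 109), (1, 1), (0, 0), (200, 200), (108, 108)] (genW s2 cxW) :=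
  Cen.step cxX cx8T (No.nil _ _ _ _ _) (Cen.base inj base (by decide +kernel) _)

theorem cxC5 : Cen s2 phi cxg [(109, 109), (1, 1), (0, 0), (200, 200), (108, 108)] (genW s2 cxW) :=
  Cen.step cxX cx7T (No.nil _ _ _ _ _) cxC6

theorem cxC4 : Cen s2 phi cxg [(1, 1), (0, 0), (200, 200), (108, 108)] (genW s2 cxW) :=
  Cen.step cxX cx6T (No.nil _ _ _ _ _) cxC5

theorem cxC3 : Cen s2 phi cxg [(0, 0), (200, 200), (108, 108)] (genW s2 cxW) :=
  Cen.step cxX cx5T (No.nil _ _ _ _ _) cxC4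

theorem cxC2 : Cen s2 phi cxg [(200, 200), (108, 108)] (genW s2 cxW) :=
  Cen.step cxX cx4T (No.nil _ _ _ _ _) cxC3

theorem cxC1 : Cen s2 phi cxg [(108, 108)] (genW s2 cxW) :=
  Cen.step cxX cx3T (No.nil _ _ _ _ _) cxC2

theorem cxC : Cen s2 phi cxg [] (genW s2 cxW) :=
  Cen.step cxX cx2T cx2N cxC1

theorem cyX : Ctx s2 (nat_lit 8) (nat_lit 266) (nat_lit 9) T2 phi Is cyg cyW cyV :=
  Ctx.of (V := [([6], [[0]]), ([7], [[0, 0, 0, 0, 0, 0, 0, 0, 0]])]) rep2 orbs (by norm_num) (by decide +kernel) cyE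

theorem cy1N : No s2 phi cyg [] 114 cy1B :=
  No.of_eq (No.leaf cyX cy1S cy1L0_ok) (by decide +kernel)

theorem cy2N : No s2 phi cyg [(114, 114)] 24 cy2B :=
  No.of_eq (No.leaf cyX cy2S cy2L0_ok) (by decide +kernel)

theorem cyC5 : Cen s2 phi cyg [(109, 109), (1, 1), (0, 0), (24, 24), (114, 114)] (genW s2 cyW) :=
  Cen.step cyX cy6T (No.nil _ _ _ _ _) (Cen.base inj base (by decide +kernel) _)

theorem cyC4 : Cen s2 phi cyg [(1, 1), (0, 0), (24, 24), (114, 114)] (genW s2 cyW) :=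
  Cen.step cyX cy5T (No.nil _ _ _ _ _) cyC5

theorem cyC3 : Cen s2 phi cyg [(0, 0), (24, 24), (114, 114)] (genW s2 cyW) :=
  Cen.step cyX cy4T (No.nil _ _ _ _ _) cyC4

theorem cyC2 : Cen s2 phi cyg [(24, 24), (114, 114)] (genW s2 cyW) :=
  Cen.step cyX cy3T (No.nil _ _ _ _ _) cyC3

theorem cyC1 : Cen s2 phi cyg [(114, 114)] (genW s2 cyW) :=
  Cen.step cyX cy2T cy2N cyC2

theorem cyC : Cen s2 phi cyg [] (genW s2 cyW) :=
  Cen.step cyX cy1T cy1N cyC1

theorem cl : ∀ c, Cm s2 [wpow [6] 1] c → ∃ w ∈ (grid [6] [] 10 1), c = ev s2 w := fun c hc =>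
  (mem_grid (by norm_num) (by norm_num) clE) c (cyC.top c hc)

theorem out : Nat.card (Cfsg.Out G) = 1 :=
  have := card.1
  out_one (out_cases (p := 11) (by norm_num) (by rw [card.2.1]; norm_num)
    (rep2.ne (show neqB (nat_lit 8) (nat_lit 266) T2 (ivl 0 133) [5] [] = true by decide +kernel)) cxC.top cl oE (I := [1]) (by decide +kernel)
    (Obs.of rep2 ob0_ok))
    (gen_top_of_eq rep.top ext2.2) gE (by decide +kernel)


end Cfsg.Agent.Comp.J1
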