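import Cfsg.Agent.Comp.J1.Pres
import Cfsg.Agent.Comp.J1.Top

set_option autoImplicit false
set_option maxRecDepth 100000

namespace Cfsg.Agent.Comp.J1
open Cfsg.Agent.Comp

namespace Tk3

noncomputable def t0 : Tr := (Tr.leaf (nat_lit 0x1fffff800fffffc007ffffe003fffff001fffff800fffffc007ffffe003fffff001fffff800fffffc007ffffe003fffff001fffff800fffffe087ff020003ff831))

noncomputable def T : Tr := t0

def RT : List (List (List Nat)) := [
  [],
  []]

def HT : List (List (Nat × Nat × Nat)) := [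
  [],
  []]

def R : List (List Nat) :=
  [[0, 0]]

def W : List (List Nat) := []

noncomputable def P : Par := ⟨T, (nat_lit 4), (nat_lit 15), (nat_lit 33), (nat_lit 11), (nat_lit 2047), (nat_lit 5), (nat_lit 31), (nat_lit 1), (nat_lit 18), (nat_lit 32), (nat_lit 0x820), RT⟩

noncomputable def J0 : List Nat := [
  nat_lit 0x69249249249249249249249]

theorem c0 : chk T (nat_lit 4) (nat_lit 15) (nat_lit 33) (nat_lit 11) (nat_lit 2047) (nat_lit 5) (nat_lit 31) (nat_lit 1) (nat_lit 18) (nat_lit 32) (nat_lit 0x820) (nat_lit 1) (nat_lit 1) RT (nat_lit 16) J0 (nat_lit 16) = true := by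
  decide +kernel

theorem r0 : P.RowsOK 16 32 := chk_sound P _ _ _ J0 _ _ (by decide +kernel) c0

theorem index.{u} : IndexLe.{u} 1 R W 2 :=
  indexLe_of_cert P HT (by decide +kernel)
    (show P.RowsOK 16 32 from r0)

end Tk3

theorem upK_3 : CardLe (genW s [[0]]) 2 :=
  CardLe.tc (V' := []) (n := 2) (m := 1) [0] Tk3.index pres.sat (by decide +kernel) (by decide +kernel) (by decide +kernel) (cardLe_nil s)

namespace Tk2

noncomputable def t0 : Tr := (Tr.leaf (nat_lit 0xfffffffff000fffffffff000fffffffff000fffffffff000fffffffff000fffffffff000fffffffff000fffffffff000fffffffff000fffffffff000fffffffff000fffffffff000fffffffff811fff052011430fff010032000fff031030))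

noncomputable def T : Tr := t0

def RT : List (List (List Nat)) := [
  [[nat_lit 3]],
  [[nat_lit 0, nat_lit 1, nat_lit 0, nat_lit 1, nat_lit 0]],
  []]

def HT : List (List (Nat × Nat × Nat)) := [
  [(2, 0, 0)],
  [(0, 2, 0)],
  []]

def R : List (List Nat) :=
  [[0, 0],
   [1, 1],
   [0, 1, 0, 1, 0, 1]]

def W : List (List Nat) := [[0]]

noncomputable def P : Par := ⟨T, (nat_lit 4), (nat_lit 15), (nat_lit 48), (nat_lit 12), (nat_lit 4095), (nat_lit 5), (nat_lit 31), (nat_lit 2), (nat_lit 19), (nat_lit 32), (nat_lit 0x18820), RT⟩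

noncomputable def J0 : List Nat := [
  nat_lit 0x134124661111111111111111111111111111111111111111]

theorem c0 : chk T (nat_lit 4) (nat_lit 15) (nat_lit 48) (nat_lit 12) (nat_lit 4095) (nat_lit 5) (nat_lit 31) (nat_lit 2) (nat_lit 19) (nat_lit 32) (nat_lit 0x18820) (nat_lit 2) (nat_lit 3) RT (nat_lit 16) J0 (nat_lit 16) = true := by
  decide +kernel

theorem r0 : P.RowsOK 16 32 := chk_sound P _ _ _ J0 _ _ (by decide +kernel) c0

theorem index.{u} : IndexLe.{u} 2 R W 3 :=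
  indexLe_of_cert P HT (by decide +kernel)
    (show P.RowsOK 16 32 from r0)

end Tk2

theorem upK_2 : CardLe (genW s [[0], [1]]) 6 :=
  CardLe.tc (V' := [[0]]) (n := 3) (m := 2) [0, 1] Tk2.index pres.sat (by decide +kernel) (by decide +kernel) (by decide +kernel) upK_3

namespace Tk1

noncomputable def t0 : Tr := (Tr.leaf (nat_lit 0x7ffffffffffff8003ffffffffffffc001ffffffffffffe000fffffffffffff0007ffffffffffff8003fffffffffffff02ffff02b81e002f416fff81e0132016a1afffc0f201501cc0d3ffe05600a00e20a7fff00980dc0a8c52fff804806c0756097ffc06a07300920c7ffe03400880cc8a1fff00800c80a2000fff80c4060030))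

noncomputable def T : Tr := t0

def RT : List (List (List Nat)) := [
  [[nat_lit 2, nat_lit 0, nat_lit 2],
   [nat_lit 4]],
  [[nat_lit 0, nat_lit 1, nat_lit 0, nat_lit 1, nat_lit 0],
   [nat_lit 4]],
  [[nat_lit 1, nat_lit 2, nat_lit 1, nat_lit 2, nat_lit 1, nat_lit 2, nat_lit 1, nat_lit 2, nat_lit 1],
   [nat_lit 0, nat_lit 2, nat_lit 0],
   [nat_lit 0, nat_lit 1, nat_lit 2, nat_lit 0, nat_lit 1, nat_lit 2, nat_lit 0, nat_lit 1, nat_lit 0, nat_lit 2, nat_lit 1, nat_lit 0, nat_lit 2, nat_lit 1]],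
  []]

def HT : List (List (Nat × Nat × Nat)) := [
  [(0, 4, 1), (2, 0, 0)],
  [(0, 3, 0), (2, 1, 0)],
  [(0, 5, 0), (0, 4, 0), (1, 6, 6)],
  []]

def R : List (List Nat) :=
  [[0, 0],
   [1, 1],
   [2, 2],
   [0, 1, 0, 1, 0, 1],
   [0, 2, 0, 2],
   [1, 2, 1, 2, 1, 2, 1, 2, 1, 2],
   [0, 1, 0, 2, 1, 0, 2, 1, 0, 2, 1, 2, 0, 1, 2]]

def W : List (List Nat) := [[0],
   [1]]

noncomputable def P : Par := ⟨T, (nat_lit 4), (nat_lit 15), (nat_lit 65), (nat_lit 13), (nat_lit 8191), (nat_lit 5), (nat_lit 31), (nat_lit 3), (nat_lit 26), (nat_lit 32), (nat_lit 0x418820), RT⟩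

noncomputable def J0 : List Nat := [
  nat_lit 0x4e40013901422111018a01022142211141110188618a81084210842108421084210842108421]

theorem c0 : chk T (nat_lit 4) (nat_lit 15) (nat_lit 65) (nat_lit 13) (nat_lit 8191) (nat_lit 5) (nat_lit 31) (nat_lit 3) (nat_lit 26) (nat_lit 32) (nat_lit 0x418820) (nat_lit 3) (nat_lit 7) RT (nat_lit 16) J0 (nat_lit 16) = true := by
  decide +kernel

theorem r0 : P.RowsOK 16 32 := chk_sound P _ _ _ J0 _ _ (by decide +kernel) c0

theorem index.{u} : IndexLe.{u} 3 R W 10 :=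
  indexLe_of_cert P HT (by decide +kernel)
    (show P.RowsOK 16 32 from r0)

end Tk1

theorem upK_1 : CardLe (genW s [[0], [1], [2]]) 60 :=
  CardLe.tc (V' := [[0], [1]]) (n := 10) (m := 6) [0, 1, 2] Tk1.index pres.sat (by decide +kernel) (by decide +kernel) (by decide +kernel) upK_2

namespace Tk0

noncomputable def t0 : Tr := (Tr.leaf (nat_lit 0x7fffffffffffffffc001ffffffffffffffff0007fffffffffffffffc001ffffffffffffffff0007ffffffffffffffff831fff07c01e01b2018c3b7ffc02c0b907d025f06dfff08d026802c03aa1afffc0aa07700a82e68a9fff01c8050070055829fffc0ee01301b81da027fff04a00d81280136197ffc0e603500900d10a3fff02900440660722387ffc0200320288144001fff01880c0060030))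

noncomputable def T : Tr := t0

def RT : List (List (List Nat)) := [
  [[nat_lit 2, nat_lit 0, nat_lit 2],
   [nat_lit 5],
   [nat_lit 3, nat_lit 0, nat_lit 3]],
  [[nat_lit 0, nat_lit 1, nat_lit 0, nat_lit 1, nat_lit 0],
   [nat_lit 5],
   [nat_lit 3, nat_lit 1, nat_lit 3]],
  [[nat_lit 1, nat_lit 2, nat_lit 1, nat_lit 2, nat_lit 1, nat_lit 2, nat_lit 1, nat_lit 2, nat_lit 1],
   [nat_lit 0, nat_lit 1, nat_lit 2, nat_lit 0, nat_lit 1, nat_lit 2, nat_lit 0, nat_lit 1, nat_lit 0, nat_lit 2, nat_lit 1, nat_lit 0, nat_lit 2, nat_lit 1],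
   [nat_lit 5],
   [nat_lit 3, nat_lit 2, nat_lit 3, nat_lit 2, nat_lit 3]],
  [[nat_lit 2, nat_lit 3, nat_lit 2, nat_lit 3, nat_lit 2],
   [nat_lit 1, nat_lit 3, nat_lit 1],
   [nat_lit 0, nat_lit 3, nat_lit 0],
   [nat_lit 1, nat_lit 2, nat_lit 1, nat_lit 2, nat_lit 3, nat_lit 1, nat_lit 2, nat_lit 1, nat_lit 2, nat_lit 1, nat_lit 3, nat_lit 2, nat_lit 1, nat_lit 2]],
  []]

def HT : List (List (Nat × Nat × Nat)) := [
  [(0, 5, 1), (2, 0, 0), (0, 8, 1)],
  [(0, 4, 0), (2, 1, 0), (0, 9, 1)],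
  [(0, 6, 0), (1, 7, 6), (2, 2, 0), (0, 10, 1)],
  [(0, 10, 0), (0, 9, 0), (0, 8, 0), (1, 11, 5)],
  []]

def R : List (List Nat) :=
  [[0, 0],
   [1, 1],
   [2, 2],
   [3, 3],
   [0, 1, 0, 1, 0, 1],
   [0, 2, 0, 2],
   [1, 2, 1, 2, 1, 2, 1, 2, 1, 2],
   [0, 1, 0, 2, 1, 0, 2, 1, 0, 2, 1, 2, 0, 1, 2],
   [0, 3, 0, 3],
   [1, 3, 1, 3],
   [2, 3, 2, 3, 2, 3],
   [1, 2, 1, 2, 1, 3, 2, 1, 2, 1, 3, 2, 1, 2, 3]]

def W : List (List Nat) := [[0],
   [1],
   [2]]

noncomputable def P : Par := ⟨T, (nat_lit 4), (nat_lit 15), (nat_lit 78), (nat_lit 13), (nat_lit 8191), (nat_lit 5), (nat_lit 31), (nat_lit 4), (nat_lit 27), (nat_lit 32), (nat_lit 0xa418820), RT⟩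

noncomputable def J0 : List Nat := [
  nat_lit 0x9c800272000ac80c822142282221862840811014220222a844400c16218a6c21084210842108421084210842108421]

theorem c0 : chk T (nat_lit 4) (nat_lit 15) (nat_lit 78) (nat_lit 13) (nat_lit 8191) (nat_lit 5) (nat_lit 31) (nat_lit 4) (nat_lit 27) (nat_lit 32) (nat_lit 0xa418820) (nat_lit 3) (nat_lit 7) RT (nat_lit 16) J0 (nat_lit 16) = true := by
  decide +kernel

theorem r0 : P.RowsOK 16 32 := chk_sound P _ _ _ J0 _ _ (by decide +kernel) c0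

theorem index.{u} : IndexLe.{u} 4 R W 11 :=
  indexLe_of_cert P HT (by decide +kernel)
    (show P.RowsOK 16 32 from r0)

end Tk0

theorem upK : CardLe (genW s [[0], [1], [2], [3]]) 660 :=
  CardLe.tc (V' := [[0], [1], [2]]) (n := 11) (m := 60) [0, 1, 2, 3] Tk0.index pres.sat (by decide +kernel) (by decide +kernel) (by decide +kernel) upK_1

theorem up : CardLe (gen s 5) 175560 := upK.step (Top.index _ s pres.sat)

end Cfsg.Agent.Comp.J1
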